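import Mathlib

/-!
# Cam, classical rows: the radical of the algebra spanned by a perfect group (helper70)

`R` is a finite algebra over a field `F`, spanned by the image of a perfect group `A`.  `aug φ` is the span of the
elements `φ t - 1`.  If the radical contains no non-trivial `u - 1` with `u` unitary, then it vanishes.
-/

set_option autoImplicit false
set_option linter.unusedSectionVars false

namespace Cfsg.Agent.Cam.C70.Jac

open scoped commutatorElement

/-- an additive cocycle with trivial action on a perfect group vanishes -/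
theorem add_eq_zero_of_perfect {A M : Type*} [Group A] [AddCommGroup M] (hA : commutator A = ⊤) (c : A → M)
    (hc : ∀ s t, c (s * t) = c s + c t) (t : A) : c t = 0 := by
  have h1 : c 1 = 0 := by
    have := hc 1 1
    rw [mul_one] at this
    exact left_eq_add.1 this
  let f : A →* Multiplicative M :=
    { toFun := fun t => Multiplicative.ofAdd (c t)
      map_one' := by rw [h1]; rfl
      map_mul' := fun s t => by rw [hc]; rfl }
  have h2 : commutator A ≤ f.ker := Abelianization.commutator_subset_ker f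
  have h3 : t ∈ f.ker := h2 (by rw [hA]; trivial)
  exact h3

/-- a homomorphism from a perfect group to a monoid with commuting values is trivial -/
theorem eq_one_of_perfect {A M : Type*} [Group A] [Monoid M] (hA : commutator A = ⊤) (c : A →* M)
    (hc : ∀ s t, c s * c t = c t * c s) (t : A) : c t = 1 := by
  have h2 : commutator A ≤ (c.toHomUnits).ker := by
    rw [commutator_def, Subgroup.commutator_le]
    intro a _ b _
    rw [MonoidHom.mem_ker, map_commutatorElement, commutatorElement_eq_one_iff_mul_comm]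
    apply Units.ext
    exact hc a b
  have h3 : t ∈ (c.toHomUnits).ker := h2 (by rw [hA]; trivial)
  exact congrArg Units.val (MonoidHom.mem_ker.1 h3)

section basic

variable {R : Type*} [Ring R]

theorem jac_mul_right {j : R} (hj : j ∈ Ring.jacobson R) (r : R) : j * r ∈ Ring.jacobson R :=
  Ideal.mul_mem_right r _ hj

theorem jac_mul_left {j : R} (hj : j ∈ Ring.jacobson R) (r : R) : r * j ∈ Ring.jacobson R :=
  Ideal.mul_mem_left _ r hj

theorem prod_mem_pow (I : Ideal R) [I.IsTwoSided] (l : List R) (hl : ∀ x ∈ l, x ∈ I) :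
    l.prod ∈ I ^ l.length := by
  induction l using List.reverseRecOn with
  | nil => rw [List.prod_nil, List.length_nil, Submodule.pow_zero, Ideal.one_eq_top]; trivial
  | append_singleton l x ih =>
    rw [List.prod_append, List.prod_singleton, List.length_append, List.length_singleton, Submodule.pow_succ]
    exact Ideal.mul_mem_mul (ih fun y hy => hl y (by simp [hy])) (hl x (by simp))

variable [Finite R]

theorem exists_prod_eq_zero : ∃ k : ℕ, ∀ l : List R, (∀ x ∈ l, x ∈ Ring.jacobson R) → k ≤ l.length → l.prod = 0 := by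
  obtain ⟨k, hk⟩ := IsSemiprimaryRing.isNilpotent (R := R)
  refine ⟨k, fun l hl hkl => ?_⟩
  have h1 : (l.take k).prod = 0 := by
    have := prod_mem_pow (Ring.jacobson R) (l.take k) (fun x hx => hl x (List.mem_of_mem_take hx))
    rw [List.length_take, min_eq_left hkl, hk] at this
    exact this
  rw [← List.take_append_drop k l, List.prod_append, h1, zero_mul]

theorem isNilpotent_of_mem {j : R} (hj : j ∈ Ring.jacobson R) : IsNilpotent j := by
  obtain ⟨k, hk⟩ := exists_prod_eq_zero (R := R)
  refine ⟨k, ?_⟩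
  have := hk (List.replicate k j) (fun x hx => by rw [List.eq_of_mem_replicate hx]; exact hj) (by simp)
  rwa [List.prod_replicate] at this

omit [Finite R] in
theorem mem_jac_of_nil {j : R} (hj : ∀ r : R, IsNilpotent (r * j)) : j ∈ Ring.jacobson R := by
  rw [← Ideal.jacobson_bot, Ideal.mem_jacobson_iff]
  intro y
  obtain ⟨u, hu⟩ := (hj y).isUnit_add_one
  refine ⟨(u⁻¹ : Rˣ), ?_⟩
  rw [Ideal.mem_bot, sub_eq_zero]
  calc ((u⁻¹ : Rˣ) : R) * y * j + (u⁻¹ : Rˣ) = (u⁻¹ : Rˣ) * (y * j + 1) := by noncomm_ring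
    _ = 1 := by rw [← hu, Units.inv_mul]

/-- sandwiches: a non-zero element `a * j * b` can be chosen on top of the radical series -/
theorem exists_top (P Q : Set R) (h : ∃ a ∈ P, ∃ j ∈ Ring.jacobson R, ∃ b ∈ Q, a * j * b ≠ 0) :
    ∃ a ∈ P, ∃ j ∈ Ring.jacobson R, ∃ b ∈ Q, a * j * b ≠ 0 ∧
      (∀ a' ∈ P, ∀ b' ∈ Q, ∀ i ∈ Ring.jacobson R, ∀ r s : R, a' * (i * (r * j * s)) * b' = 0) ∧
      (∀ a' ∈ P, ∀ b' ∈ Q, ∀ i ∈ Ring.jacobson R, ∀ r s : R, a' * (r * j * s * i) * b' = 0) := by
  classical
  obtain ⟨k, hk⟩ := exists_prod_eq_zero (R := R)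
  let S : ℕ → Prop := fun n => ∃ a ∈ P, ∃ b ∈ Q, ∃ l : List R, (∀ x ∈ l, x ∈ Ring.jacobson R) ∧ l.length = n + 1 ∧
    a * l.prod * b ≠ 0
  have h0 : S 0 := by
    obtain ⟨a, ha, j, hj, b, hb, hne⟩ := h
    exact ⟨a, ha, b, hb, [j], by simpa using hj, rfl, by simpa using hne⟩
  have hb : ∀ n, S n → n ≤ k := by
    rintro n ⟨a, ha, b, hb, l, hl, hn, hne⟩
    by_contra hlt
    rw [hk l hl (by omega)] at hne
    simp at hne
  have h1 := Nat.findGreatest_spec (P := S) (Nat.zero_le k) h0
  set n := Nat.findGreatest S k with hn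
  have h2 : ¬ S (n + 1) := by
    intro hS
    have := Nat.le_findGreatest (hb _ hS) hS
    omega
  obtain ⟨a, ha, b, hb', l, hl, hlen, hne⟩ := h1
  have key : ∀ (r s : R), ∃ l' : List R, (∀ x ∈ l', x ∈ Ring.jacobson R) ∧ l'.length = n + 1 ∧
      l'.prod = r * l.prod * s := by
    intro r s
    have k1 : ∀ (l : List R), (∀ x ∈ l, x ∈ Ring.jacobson R) → l.length = n + 1 → ∀ r : R,
        ∃ l' : List R, (∀ x ∈ l', x ∈ Ring.jacobson R) ∧ l'.length = n + 1 ∧ l'.prod = r * l.prod := by
      intro l hl hlen r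
      cases l with
      | nil => simp at hlen
      | cons x l =>
        refine ⟨(r * x) :: l, ?_, by simpa using hlen, by simp [mul_assoc]⟩
        intro y hy
        rcases List.mem_cons.1 hy with rfl | hy
        · exact jac_mul_left (hl x (by simp)) r
        · exact hl y (by simp [hy])
    obtain ⟨l1, hl1, hlen1, hp1⟩ := k1 l hl hlen r
    rcases List.eq_nil_or_concat l1 with rfl | ⟨l2, x, rfl⟩
    · simp at hlen1
    · refine ⟨l2.concat (x * s), ?_, by simpa using hlen1, ?_⟩
      · intro y hy
        rw [List.concat_eq_append, List.mem_append, List.mem_singleton] at hy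
        rcases hy with hy | rfl
        · exact hl1 y (by simp [hy])
        · exact jac_mul_right (hl1 x (by simp)) s
      · rw [← hp1]
        simp [mul_assoc]
  have hmem : l.prod ∈ Ring.jacobson R := by
    cases l with
    | nil => simp at hlen
    | cons x l =>
      rw [List.prod_cons]
      exact jac_mul_right (hl x (by simp)) _
  refine ⟨a, ha, l.prod, hmem, b, hb', hne, ?_, ?_⟩
  · intro a' ha' b' hb'' i hi r s
    obtain ⟨l', hl', hlen', hp'⟩ := key r s
    by_contra hne'
    apply h2
    refine ⟨a', ha', b', hb'', i :: l', ?_, by simp [hlen'], by rwa [List.prod_cons, hp']⟩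
    intro y hy
    rcases List.mem_cons.1 hy with rfl | hy
    · exact hi
    · exact hl' y hy
  · intro a' ha' b' hb'' i hi r s
    obtain ⟨l', hl', hlen', hp'⟩ := key r s
    by_contra hne'
    apply h2
    refine ⟨a', ha', b', hb'', l' ++ [i], ?_, by simp [hlen'], by rwa [List.prod_append, hp', List.prod_singleton]⟩
    intro y hy
    rcases List.mem_append.1 hy with hy | hy
    · exact hl' y hy
    · rw [List.mem_singleton.1 hy]; exact hi

theorem star_mem_jac [StarRing R] {j : R} (hj : j ∈ Ring.jacobson R) : star j ∈ Ring.jacobson R := by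
  apply mem_jac_of_nil
  intro r
  obtain ⟨k, hk⟩ := isNilpotent_of_mem (jac_mul_right hj (star r))
  refine ⟨k, ?_⟩
  have := congrArg star hk
  rwa [star_pow, star_mul, star_star, star_zero] at this

end basic

section aug

variable {F R A : Type*} [Field F] [Ring R] [Algebra F R] [Group A]

/-- the span of the `φ t - 1` -/
def aug (F : Type*) [Field F] [Algebra F R] (φ : A →* R) : Submodule F R :=
  Submodule.span F (Set.range fun t => φ t - 1)

theorem sub_one_mem (φ : A →* R) (t : A) : φ t - 1 ∈ aug F φ := Submodule.subset_span ⟨t, rfl⟩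

theorem aug_induction {φ : A →* R} {P : R → Prop} (h0 : P 0) (h1 : ∀ t, P (φ t - 1))
    (hadd : ∀ x y, P x → P y → P (x + y)) (hsmul : ∀ (c : F) x, P x → P (c • x)) {x : R} (hx : x ∈ aug F φ) :
    P x := by
  induction hx using Submodule.span_induction with
  | mem x hx => obtain ⟨t, rfl⟩ := hx; exact h1 t
  | zero => exact h0
  | add x y _ _ hx hy => exact hadd x y hx hy
  | smul c x _ hx => exact hsmul c x hx

/-- `R` is spanned by the image of `φ` -/
def Spans (F : Type*) [Field F] [Algebra F R] (φ : A →* R) : Prop :=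
  ∀ r : R, r ∈ Submodule.span F (Set.range φ)

theorem Spans.induction {φ : A →* R} (h : Spans F φ) {P : R → Prop} (h0 : P 0) (h1 : ∀ t, P (φ t))
    (hadd : ∀ x y, P x → P y → P (x + y)) (hsmul : ∀ (c : F) x, P x → P (c • x)) (x : R) : P x := by
  have hx := h x
  induction hx using Submodule.span_induction with
  | mem x hx => obtain ⟨t, rfl⟩ := hx; exact h1 t
  | zero => exact h0
  | add x y _ _ hx hy => exact hadd x y hx hy
  | smul c x _ hx => exact hsmul c x hx

theorem Spans.mul_mem_left {φ : A →* R} (h : Spans F φ) (r : R) {x : R} (hx : x ∈ aug F φ) :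
    r * x ∈ aug F φ := by
  have h1 : ∀ s : A, φ s * x ∈ aug F φ := by
    intro s
    refine aug_induction (F := F) (P := fun x => φ s * x ∈ aug F φ) (by simp) (fun t => ?_)
      (fun x y hx hy => by rw [mul_add]; exact add_mem hx hy)
      (fun c x hx => by rw [mul_smul_comm]; exact Submodule.smul_mem _ c hx) hx
    have : φ s * (φ t - 1) = (φ (s * t) - 1) - (φ s - 1) := by rw [map_mul]; noncomm_ring
    rw [this]
    exact sub_mem (sub_one_mem φ _) (sub_one_mem φ _)
  refine h.induction (P := fun r => r * x ∈ aug F φ) (by simp) h1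
    (fun a b ha hb => by rw [add_mul]; exact add_mem ha hb)
    (fun c a ha => by rw [smul_mul_assoc]; exact Submodule.smul_mem _ c ha) r

theorem Spans.mul_mem_right {φ : A →* R} (h : Spans F φ) (r : R) {x : R} (hx : x ∈ aug F φ) :
    x * r ∈ aug F φ := by
  have h1 : ∀ s : A, x * φ s ∈ aug F φ := by
    intro s
    refine aug_induction (F := F) (P := fun x => x * φ s ∈ aug F φ) (by simp) (fun t => ?_)
      (fun x y hx hy => by rw [add_mul]; exact add_mem hx hy)
      (fun c x hx => by rw [smul_mul_assoc]; exact Submodule.smul_mem _ c hx) hx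
    have : (φ t - 1) * φ s = (φ (t * s) - 1) - (φ s - 1) := by rw [map_mul]; noncomm_ring
    rw [this]
    exact sub_mem (sub_one_mem φ _) (sub_one_mem φ _)
  refine h.induction (P := fun r => x * r ∈ aug F φ) (by simp) h1
    (fun a b ha hb => by rw [mul_add]; exact add_mem ha hb)
    (fun c a ha => by rw [mul_smul_comm]; exact Submodule.smul_mem _ c ha) r

theorem Spans.exists_eq {φ : A →* R} (h : Spans F φ) (r : R) : ∃ c : F, ∃ x ∈ aug F φ, r = algebraMap F R c + x := by
  refine h.induction (P := fun r => ∃ c : F, ∃ x ∈ aug F φ, r = algebraMap F R c + x)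
    ⟨0, 0, zero_mem _, by simp⟩ (fun t => ⟨1, φ t - 1, sub_one_mem φ t, by simp⟩) ?_ ?_ r
  · rintro _ _ ⟨c, x, hx, rfl⟩ ⟨d, y, hy, rfl⟩
    exact ⟨c + d, x + y, add_mem hx hy, by rw [map_add]; abel⟩
  · rintro d _ ⟨c, x, hx, rfl⟩
    exact ⟨d * c, d • x, Submodule.smul_mem _ d hx, by rw [smul_add, map_mul, Algebra.smul_def]⟩

/-- `aug² = aug` for a perfect group, as an induction principle -/
theorem aug_induction_sq (hA : commutator A = ⊤) {φ : A →* R} {P : R → Prop}
    (h1 : ∀ x ∈ aug F φ, ∀ y ∈ aug F φ, P (x * y))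
    (hadd : ∀ x y, P x → P y → P (x + y)) {x : R} (hx : x ∈ aug F φ) : P x := by
  have hsq : ∀ t, φ t - 1 ∈ aug F φ * aug F φ := by
    intro t
    have := add_eq_zero_of_perfect hA (fun t => (aug F φ * aug F φ).mkQ (φ t - 1)) (fun s t => by
      rw [← map_add, Submodule.mkQ_apply, Submodule.mkQ_apply, Submodule.Quotient.eq]
      have : φ (s * t) - 1 - (φ s - 1 + (φ t - 1)) = (φ s - 1) * (φ t - 1) := by rw [map_mul]; noncomm_ring
      rw [this]
      exact Submodule.mul_mem_mul (sub_one_mem φ s) (sub_one_mem φ t)) t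
    rwa [Submodule.mkQ_apply, Submodule.Quotient.mk_eq_zero] at this
  have hle : aug F φ ≤ aug F φ * aug F φ := by
    rw [aug, Submodule.span_le]
    rintro _ ⟨t, rfl⟩
    exact hsq t
  exact Submodule.mul_induction_on (hle hx) h1 hadd

variable [Finite R]

/-- the radical vanishes as soon as it is annihilated by `aug` on both sides -/
theorem jac_eq_bot_of_aug (hA : commutator A = ⊤) {φ : A →* R} (h : Spans F φ)
    (hl : ∀ x ∈ aug F φ, ∀ j ∈ Ring.jacobson R, x * j = 0)
    (hr : ∀ x ∈ aug F φ, ∀ j ∈ Ring.jacobson R, j * x = 0) : Ring.jacobson R = ⊥ := by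
  let I : Ideal R :=
    { carrier := aug F φ
      add_mem' := fun ha hb => add_mem ha hb
      zero_mem' := zero_mem _
      smul_mem' := fun r x hx => h.mul_mem_left r hx }
  let π := Ideal.Quotient.mk (Ring.jacobson R)
  obtain ⟨e, he, hI⟩ := IsSemisimpleRing.ideal_eq_span_idempotent (I.map π)
  have he1 : e ∈ I.map π := by rw [hI]; exact Ideal.subset_span rfl
  obtain ⟨e', he', rfl⟩ := (Ideal.mem_map_iff_of_surjective π Ideal.Quotient.mk_surjective).1 he1
  have h1 : ∀ x ∈ aug F φ, x * e' - x ∈ Ring.jacobson R := by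
    intro x hx
    have h2 : π x ∈ I.map π := Ideal.mem_map_of_mem π hx
    rw [hI, Ideal.mem_span_singleton'] at h2
    obtain ⟨a, ha⟩ := h2
    rw [← Ideal.Quotient.eq_zero_iff_mem, map_sub, map_mul, ← ha, mul_assoc, he.eq, sub_self]
  have h2 : ∀ x ∈ aug F φ, x * e' = x := by
    intro x hx
    refine aug_induction_sq hA (P := fun x => x * e' = x) (fun x hx y hy => ?_)
      (fun x y hx hy => by rw [add_mul, hx, hy]) hx
    have := hl x hx _ (h1 y hy)
    rw [mul_sub, sub_eq_zero, ← mul_assoc] at this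
    exact this
  rw [eq_bot_iff]
  intro j hj
  rw [Ideal.mem_bot]
  obtain ⟨c, x, hx, hjx⟩ := h.exists_eq j
  by_cases hc : c = 0
  · rw [hc, map_zero, zero_add] at hjx
    rw [← h2 j (hjx ▸ hx)]
    exact hr e' he' j hj
  · have h3 : j * j = c • j := by
      nth_rewrite 2 [hjx]
      rw [mul_add, hr x hx j hj, add_zero, Algebra.smul_def, Algebra.commutes]
    have h4 : ∀ n : ℕ, j ^ (n + 1) = c ^ n • j := by
      intro n
      induction n with
      | zero => simp
      | succ n ih => rw [pow_succ, ih, smul_mul_assoc, h3, smul_smul, pow_succ]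
    obtain ⟨k, hk⟩ := isNilpotent_of_mem hj
    have h5 := h4 k
    rw [pow_succ, hk, zero_mul] at h5
    exact (smul_eq_zero.1 h5.symm).resolve_left (pow_ne_zero k hc)

omit [Finite R] in
/-- a left ideal of symmetric elements is annihilated by `aug` -/
theorem aug_mul_eq_zero_of_symm [StarRing R] (hA : commutator A = ⊤) (φ : A →* R) (I : Set R)
    (hI : ∀ r : R, ∀ j ∈ I, r * j ∈ I) (hs : ∀ j ∈ I, star j = j) :
    ∀ x ∈ aug F φ, ∀ j ∈ I, x * j = 0 := by
  have h1 : ∀ x : R, ∀ j ∈ I, x * j = j * star x := by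
    intro x j hj
    rw [← hs _ (hI x j hj), star_mul, hs j hj]
  have h2 : ∀ x y : R, ∀ j ∈ I, x * y * j = y * x * j := by
    intro x y j hj
    rw [h1 (y * x) j hj, star_mul, mul_assoc x, h1 y j hj, ← mul_assoc, h1 x j hj, mul_assoc]
  let ψ : A →* Function.End I :=
    { toFun := fun t j => ⟨φ t * j, hI _ _ j.2⟩
      map_one' := by funext j; apply Subtype.ext; simp; rfl
      map_mul' := fun s t => by funext j; apply Subtype.ext; simp [mul_assoc]; rfl }
  have h3 : ∀ t, ∀ j ∈ I, φ t * j = j := by
    intro t j hj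
    have := eq_one_of_perfect hA ψ (fun s t => by
      funext j
      apply Subtype.ext
      change φ s * (φ t * j) = φ t * (φ s * j)
      rw [← mul_assoc, ← mul_assoc]
      exact h2 _ _ _ j.2) t
    exact congrArg Subtype.val (congrFun this ⟨j, hj⟩)
  intro x hx j hj
  refine aug_induction (F := F) (P := fun x => x * j = 0) (by simp) (fun t => by rw [sub_mul, h3 t j hj, one_mul, sub_self])
    (fun x y hx hy => by rw [add_mul, hx, hy, add_zero]) (fun c x hx => by rw [smul_mul_assoc, hx, smul_zero]) hx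

/-- characteristic two -/
theorem jac_eq_bot_two [StarRing R] (h2 : (2 : R) = 0)
    (hU : ∀ j ∈ Ring.jacobson R, star (1 + j) * (1 + j) = 1 → j = 0) : Ring.jacobson R = ⊥ := by
  by_contra hne
  obtain ⟨j0, hj0, hj00⟩ := Submodule.exists_mem_ne_zero_of_ne_bot hne
  obtain ⟨a, ha, j, hj, b, hb, hne', hl, hr⟩ := exists_top (R := R) {1} {1} ⟨1, rfl, j0, hj0, 1, rfl, by simpa using hj00⟩
  rw [Set.mem_singleton_iff] at ha hb
  subst ha hb
  have hl' : ∀ i ∈ Ring.jacobson R, i * j = 0 := fun i hi => by simpa using hl 1 rfl 1 rfl i hi 1 1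
  have hr' : ∀ i ∈ Ring.jacobson R, j * i = 0 := fun i hi => by simpa using hr 1 rfl 1 rfl i hi 1 1
  have hs := star_mem_jac hj
  have hjj : ∀ x : R, x + x = 0 := fun x => by rw [← two_mul, h2, zero_mul]
  have h3 : star j * star j = 0 := by rw [← star_mul, hl' j hj, star_zero]
  have h4 : j + star j = 0 := by
    apply hU _ (add_mem hj hs)
    rw [star_add, star_add, star_star, star_one]
    calc (1 + (star j + j)) * (1 + (j + star j))
        = 1 + ((j + star j) + (j + star j)) + (star j * j + star j * star j + j * j + j * star j) := by noncomm_ring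
      _ = 1 := by rw [hjj, hl' _ hs, h3, hl' j hj, hr' _ hs]; simp
  have h5 : star j = j := by
    have := hjj j
    rw [← h4, add_left_cancel_iff] at this
    exact this.symm
  apply hne'
  rw [one_mul, mul_one]
  apply hU j hj
  rw [star_add, star_one, h5]
  calc (1 + j) * (1 + j) = 1 + (j + j) + j * j := by noncomm_ring
    _ = 1 := by rw [hjj, hl' j hj]; simp

/-- odd characteristic -/
theorem jac_eq_bot_odd [StarRing R] (hA : commutator A = ⊤) {φ : A →* R} (h : Spans F φ) (h2 : (2 : F) ≠ 0)
    (hst : ∀ x ∈ aug F φ, star x ∈ aug F φ)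
    (hU : ∀ j ∈ Ring.jacobson R, star (1 + j) * (1 + j) = 1 → j = 0) : Ring.jacobson R = ⊥ := by
  have hskew : ∀ a ∈ Ring.jacobson R, star a = -a → a = 0 := by
    intro a ha hsa
    obtain ⟨u, hu⟩ := (isNilpotent_of_mem ha).isUnit_add_one
    obtain ⟨w, hw⟩ := (isNilpotent_of_mem (neg_mem ha)).isUnit_add_one
    -- the Cayley transform is `w * u⁻¹`
    have hsu : star (u : R) = w := by rw [hu, hw, star_add, hsa, star_one]
    have hsw : star (w : R) = u := by rw [← hsu, star_star]
    have hsui : star ((u⁻¹ : Rˣ) : R) = (w⁻¹ : Rˣ) := by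
      apply Units.eq_inv_of_mul_eq_one_right
      rw [← hsu, ← star_mul, Units.mul_inv, star_one]
    have hc : (u : R) * w = w * u := by rw [hu, hw]; noncomm_ring
    have h1 : (w : R) * (u⁻¹ : Rˣ) = 1 + (-(a + a)) * (u⁻¹ : Rˣ) := by
      have : (w : R) = u + -(a + a) := by rw [hu, hw]; abel
      rw [this, add_mul, Units.mul_inv]
    have h3 := hU _ (jac_mul_right (neg_mem (add_mem ha ha)) ((u⁻¹ : Rˣ) : R)) (by
      rw [← h1, star_mul, hsui, hsw]
      calc ((w⁻¹ : Rˣ) : R) * u * (w * (u⁻¹ : Rˣ)) = (w⁻¹ : Rˣ) * (u * w) * (u⁻¹ : Rˣ) := by noncomm_ring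
        _ = 1 := by rw [hc, ← mul_assoc, Units.inv_mul, one_mul, Units.mul_inv])
    rw [Units.mul_left_eq_zero, neg_eq_zero, ← two_smul F] at h3
    exact (smul_eq_zero.1 h3).resolve_left h2
  have hs : ∀ j ∈ Ring.jacobson R, star j = j := by
    intro j hj
    have := hskew (star j - j) (sub_mem (star_mem_jac hj) hj) (by rw [star_sub, star_star, neg_sub])
    exact sub_eq_zero.1 this
  have hl := aug_mul_eq_zero_of_symm (F := F) hA φ (Ring.jacobson R : Set R) (fun r j hj => jac_mul_left hj r) hs
  refine jac_eq_bot_of_aug hA h hl (fun x hx j hj => ?_)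
  have := congrArg star (hl _ (hst x hx) j hj)
  rwa [star_mul, star_star, hs j hj, star_zero] at this

end aug

end Cfsg.Agent.Cam.C70.Jac
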